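import Groth.Agent.Lib.RefHull.Generic
import Groth.Agent.Lib.RefHull.SecHom
import Groth.Agent.Lib.PicGen.Integral
import Groth.Agent.Lib.AssPt.Basic
import Groth.Agent.Lib.TensorMod.GenLocal
import Mathlib.RingTheory.Flat.TorsionFree

/-!
# Stalks of a flat scheme over an integral scheme are seen over the generic point
-/

universe u

noncomputable section

open CategoryTheory AlgebraicGeometry TopologicalSpace Opposite

namespace Groth.Agent.Lib.PicGen.Maximal.Stalks

open Groth.Agent.Lib Groth.Agent.Lib.RefHull Generic Groth.Agent.Lib.TensorMod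
open Groth.Agent.Lib.TensorMod.Dual (rs rf rf_rf rs_rs)
open Groth.Agent.Lib.TensorMod.Gen (IsGen)

variable {X Y : Scheme.{u}} (f : X ⟶ Y)

/-- The fibre rings of charts are domains or zero over a point with integral fibre. -/
theorem isDomain_fiber {U : X.Opens} (hU : IsAffineOpen U) {V : Y.Opens} (hV : IsAffineOpen V)
    (e : U ≤ f ⁻¹ᵁ V) :
    letI := (f.appLE V U e).hom.toAlgebra
    ∀ (p : Ideal Γ(Y, V)) [hp : p.IsPrime], IsIntegral (f.fiber (hV.fromSpec ⟨p, hp⟩)) →
      IsDomain (p.Fiber Γ(X, U)) ∨ Subsingleton (p.Fiber Γ(X, U)) := by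
  letI := (f.appLE V U e).hom.toAlgebra
  intro p hp hint
  obtain ⟨j, hj⟩ := Flat55.FibreAffine.exists_openImmersion f Γ(Y, V) Γ(X, U) hV.fromSpec hU.fromSpec
    (Integral.fromSpec_comp f hU hV e) ⟨p, hp⟩
  rcases subsingleton_or_nontrivial (p.Fiber Γ(X, U)) with h | h
  · exact Or.inr h
  haveI := hint
  haveI : Nonempty (Spec (.of (p.Fiber Γ(X, U)))) :=
    (inferInstance : Nonempty (PrimeSpectrum (p.Fiber Γ(X, U))))
  haveI := isIntegral_of_isOpenImmersion j
  exact Or.inl (((affine_isIntegral_iff (CommRingCat.of (p.Fiber Γ(X, U)))).mp inferInstance))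

section Gen

variable {M : X.Modules} {U : X.Opens} {m : Γ(M, U)}

theorem span_germ (hm : IsGen M U m) {x : X} (hx : x ∈ U) :
    Submodule.span (X.presheaf.stalk x) {M.presheaf.germ U x hx m} = ⊤ := by
  refine eq_top_iff.mpr fun v _ => ?_
  obtain ⟨W, hW, n, rfl⟩ := TopCat.Presheaf.exists_germ_eq M.presheaf v
  obtain ⟨a, ha⟩ := (hm (W ⊓ U) inf_le_right).2 (rs M inf_le_left n)
  refine Submodule.mem_span_singleton.mpr
    ⟨X.presheaf.germ (W ⊓ U) x (Opens.mem_inf.mpr ⟨hW, hx⟩) a, ?_⟩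
  have h := congrArg (M.presheaf.germ (W ⊓ U) x (Opens.mem_inf.mpr ⟨hW, hx⟩)) ha
  rw [Mero.germ_smul, SecHom.germ_rs, SecHom.germ_rs] at h
  exact h

theorem eq_zero_of_smul_germ (hm : IsGen M U m) {x : X} (hx : x ∈ U) {c : X.presheaf.stalk x}
    (h : c • M.presheaf.germ U x hx m = 0) : c = 0 := by
  obtain ⟨W, hW, a, rfl⟩ := TopCat.Presheaf.exists_germ_eq X.presheaf c
  have hWU : x ∈ W ⊓ U := Opens.mem_inf.mpr ⟨hW, hx⟩
  have h' : M.presheaf.germ (W ⊓ U) x hWU (rf (inf_le_left : W ⊓ U ≤ W) a • rs M (inf_le_right : W ⊓ U ≤ U) m) =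
      M.presheaf.germ (W ⊓ U) x hWU 0 := by
    rw [Mero.germ_smul, SecHom.germ_rs, SecHom.germ_rf, map_zero]
    exact h
  obtain ⟨T, hT, i₁, i₂, hTe⟩ := M.presheaf.germ_eq x hWU hWU _ _ h'
  have hTe' : rs M i₁.le (rf (inf_le_left : W ⊓ U ≤ W) a • rs M (inf_le_right : W ⊓ U ≤ U) m) = 0 := hTe.trans (map_zero _)
  rw [Dual.rs_smul, rs_rs, rf_rf] at hTe'
  have ha : rf (i₁.le.trans inf_le_left) a = 0 :=
    (hm T (i₁.le.trans inf_le_right)).1 (hTe'.trans (zero_smul _ _).symm)
  rw [← SecHom.germ_rf (i₁.le.trans inf_le_left) hT a, ha, map_zero]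

theorem smul_left_cancel (hM : PicF.IsInvertible M) {x : X} {e : M.presheaf.stalk x}
    (he : Submodule.span (X.presheaf.stalk x) {e} = ⊤) {c d : X.presheaf.stalk x}
    (h : c • e = d • e) : c = d := by
  obtain ⟨U, m, hx, hm⟩ := Gen.isInvertible_iff.mp hM x
  obtain ⟨a, ha⟩ := Submodule.mem_span_singleton.mp
    (show M.presheaf.germ U x hx m ∈ _ from he.ge Submodule.mem_top)
  refine sub_eq_zero.mp (eq_zero_of_smul_germ hm hx ?_)
  rw [← ha, smul_smul, mul_comm, mul_smul, sub_smul, h, sub_self, smul_zero]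

theorem isUnit_of_smul (hM : PicF.IsInvertible M) {x : X} {e e' : M.presheaf.stalk x}
    (he : Submodule.span (X.presheaf.stalk x) {e} = ⊤)
    (he' : Submodule.span (X.presheaf.stalk x) {e'} = ⊤) {c : X.presheaf.stalk x}
    (h : e' = c • e) : IsUnit c := by
  obtain ⟨d, hd⟩ := Submodule.mem_span_singleton.mp (show e ∈ _ from he'.ge Submodule.mem_top)
  refine IsUnit.of_mul_eq_one d (smul_left_cancel hM he ?_)
  rw [one_smul, mul_comm, mul_smul, ← h, hd]

theorem span_specializes (hM : PicF.IsInvertible M) {x x' : X} (h : x' ⤳ x) {e : M.presheaf.stalk x}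
    (he : Submodule.span (X.presheaf.stalk x) {e} = ⊤) :
    Submodule.span (X.presheaf.stalk x') {M.presheaf.stalkSpecializes h e} = ⊤ := by
  obtain ⟨U, m, hx, hm⟩ := Gen.isInvertible_iff.mp hM x
  have hx' := h.mem_open U.isOpen hx
  obtain ⟨c, hc⟩ := Submodule.mem_span_singleton.mp
    (show M.presheaf.germ U x hx m ∈ _ from he.ge Submodule.mem_top)
  refine eq_top_iff.mpr ((span_germ hm hx').ge.trans
    (Submodule.span_le.mpr (Set.singleton_subset_iff.mpr ?_)))
  refine Submodule.mem_span_singleton.mpr ⟨(X.presheaf.stalkSpecializes h).hom c, ?_⟩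
  rw [← Cyc.C1.stalkSpecializes_smul M h c e, hc]
  exact TopCat.Presheaf.germ_stalkSpecializes_apply M.presheaf hx h m

end Gen

variable [IsIntegral Y]

/-- The function field of the base in the local ring at a point over its generic point. -/
def jp {p : X} (hp : f p = genericPoint ↥Y) : Y.functionField →+* X.presheaf.stalk p :=
  (f.stalkMap p).hom.comp (Y.presheaf.stalkSpecializes (specializes_of_eq hp)).hom

theorem jp_germ {p : X} (hp : f p = genericPoint ↥Y) {V : Y.Opens} (hV : genericPoint ↥Y ∈ V)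
    (hX : p ∈ f ⁻¹ᵁ V) (r : Γ(Y, V)) :
    jp f hp (Y.presheaf.germ V _ hV r) = X.presheaf.germ (f ⁻¹ᵁ V) p hX (f.app V r) := by
  show (f.stalkMap p).hom ((Y.presheaf.stalkSpecializes (specializes_of_eq hp)).hom _) = _
  rw [show (Y.presheaf.stalkSpecializes (specializes_of_eq hp)).hom (Y.presheaf.germ V _ hV r) =
    Y.presheaf.germ V (f p) hX r from
      TopCat.Presheaf.germ_stalkSpecializes_apply Y.presheaf hV (specializes_of_eq hp) r]
  exact Scheme.Hom.germ_stalkMap_apply f V p hX r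

theorem mem_preimage {p : X} (hp : f p = genericPoint ↥Y) {V : Y.Opens}
    (hV : genericPoint ↥Y ∈ V) : p ∈ f ⁻¹ᵁ V :=
  show f p ∈ V from hp.symm ▸ hV

theorem jp_algebraMap {x p : X} (h : p ⤳ x) (hp : f p = genericPoint ↥Y)
    (r : Y.presheaf.stalk (f x)) :
    jp f hp (algebraMap (Y.presheaf.stalk (f x)) Y.functionField r) =
      X.presheaf.stalkSpecializes h ((f.stalkMap x).hom r) := by
  obtain ⟨V, hV, r', rfl⟩ := TopCat.Presheaf.exists_germ_eq Y.presheaf r
  rw [algebraMap_germ, jp_germ f hp ((spec (f x)).mem_open V.isOpen hV)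
    (h.mem_open (f ⁻¹ᵁ V).isOpen hV)]
  erw [Scheme.Hom.germ_stalkMap_apply f V x hV r']
  exact (TopCat.Presheaf.germ_stalkSpecializes_apply X.presheaf (show x ∈ f ⁻¹ᵁ V from hV) h _).symm

theorem jp_specializes {p p' : X} (h : p' ⤳ p) (hp : f p = genericPoint ↥Y)
    (hp' : f p' = genericPoint ↥Y) (k : Y.functionField) :
    X.presheaf.stalkSpecializes h (jp f hp k) = jp f hp' k := by
  obtain ⟨V, hV, r, rfl⟩ := TopCat.Presheaf.exists_germ_eq Y.presheaf k
  rw [jp_germ f hp hV (mem_preimage f hp hV), jp_germ f hp' hV (mem_preimage f hp' hV)]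
  exact TopCat.Presheaf.germ_stalkSpecializes_apply X.presheaf _ h _

variable [Flat f]

/-- An element of a stalk which dies at all generizations over the generic point is zero. -/
theorem eq_zero_of_forall {x : X} {c : X.presheaf.stalk x}
    (h : ∀ p, f p = genericPoint ↥Y → ∀ hp : p ⤳ x, X.presheaf.stalkSpecializes hp c = 0) :
    c = 0 := by
  obtain ⟨V, hV, hxV, -⟩ := exists_isAffineOpen_mem_and_subset (X := Y) (Opens.mem_top (f x))
  obtain ⟨W, hxW, n, rfl⟩ := TopCat.Presheaf.exists_germ_eq X.presheaf c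
  obtain ⟨U, hU, hxU, hUle⟩ := exists_isAffineOpen_mem_and_subset (X := X) (x := x)
    (U := W ⊓ f ⁻¹ᵁ V) (Opens.mem_inf.mpr ⟨hxW, hxV⟩)
  have hUW : U ≤ W := fun z hz => (Opens.mem_inf.mp (hUle hz)).1
  have hUV : U ≤ f ⁻¹ᵁ V := fun z hz => (Opens.mem_inf.mp (hUle hz)).2
  set b := rf hUW n with hbdef
  have hb : ∀ z (hz : z ∈ U), X.presheaf.germ U z hz b = X.presheaf.germ W z (hUW hz) n :=
    fun z hz => SecHom.germ_rf hUW hz n
  rw [← hb x hxU]
  letI := (f.appLE V U hUV).hom.toAlgebra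
  haveI : Module.Flat Γ(Y, V) Γ(X, U) := Flat.flat_appLE f hV hU hUV
  haveI : Nonempty (V : Scheme.{u}) := ⟨⟨f x, hxV⟩⟩
  haveI : IsDomain Γ(Y, V) := inferInstance
  letI := TopCat.Presheaf.algebra_section_stalk X.presheaf (⟨x, hxU⟩ : U)
  haveI := hU.isLocalization_stalk ⟨x, hxU⟩
  let P₀ := (hU.primeIdealOf ⟨x, hxU⟩).asIdeal
  let S : Submonoid Γ(X, U) :=
    Algebra.algebraMapSubmonoid Γ(X, U) (nonZeroDivisors Γ(Y, V)) ⊔ P₀.primeCompl
  let J : Ideal Γ(X, U) := (⊥ : Ideal Γ(X, U)).colon (Ideal.span {b})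
  have hJ : ∀ t, t ∈ J ↔ t * b = 0 := fun t => by
    simp [J, Ideal.mem_colon_span_singleton]
  by_cases hd : Disjoint (J : Set Γ(X, U)) (S : Set Γ(X, U))
  · exfalso
    obtain ⟨P, hP, hJP, hPd⟩ := Ideal.exists_le_prime_disjoint J S hd
    haveI := hP
    obtain ⟨p, hp, hpP⟩ := AssPt.Basic.exists_point_of_prime hU P
    have hPle : P ≤ P₀ := fun t ht => by
      by_contra ht0
      exact Set.disjoint_left.mp hPd ht (Submonoid.mem_sup_right ht0)
    have hPc : P.comap (f.appLE V U hUV).hom = ⊥ := by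
      refine eq_bot_iff.mpr fun a ha => ?_
      by_contra ha0
      exact Set.disjoint_left.mp hPd ha
        (Submonoid.mem_sup_left ⟨a, mem_nonZeroDivisors_of_ne_zero ha0, rfl⟩)
    have hφp : f p = genericPoint ↥Y := by
      have h := IsAffineOpen.comap_primeIdealOf_appLE (f := f) (x := p) V hV U hU hUV hp
      have hηp := (spec (f p)).mem_open V.isOpen (hUV hp)
      refine (((AssPt.Basic.specializes_iff_primeIdealOf hV hηp (hUV hp)).mpr ?_).antisymm
        (spec (f p))).eq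
      have h' := congrArg PrimeSpectrum.asIdeal h
      change (hU.primeIdealOf ⟨p, hp⟩).asIdeal.comap (f.appLE V U hUV).hom = _ at h'
      rw [hpP, hPc] at h'
      rw [← h']
      exact bot_le
    have hpx : p ⤳ x := (AssPt.Basic.specializes_iff_primeIdealOf hU hxU hp).mpr (by rw [hpP]; exact hPle)
    have h0 : X.presheaf.germ U p hp b = 0 := by
      rw [hb p hp, ← h p hφp hpx]
      exact (TopCat.Presheaf.germ_stalkSpecializes_apply X.presheaf hxW hpx n).symm
    letI := TopCat.Presheaf.algebra_section_stalk X.presheaf (⟨p, hp⟩ : U)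
    haveI := hU.isLocalization_stalk ⟨p, hp⟩
    obtain ⟨⟨t, ht⟩, e⟩ := (IsLocalization.map_eq_zero_iff
      (hU.primeIdealOf ⟨p, hp⟩).asIdeal.primeCompl (X.presheaf.stalk p) b).mp h0
    exact ht (hpP.ge (hJP ((hJ t).mpr e)))
  · obtain ⟨w, hw, hwS⟩ := Set.not_disjoint_iff.mp hd
    obtain ⟨_, ⟨a, ha, rfl⟩, t, ht, rfl⟩ := Submonoid.mem_sup.mp hwS
    have h1 : a • (t * b) = 0 := by
      rw [Algebra.smul_def, ← mul_assoc]
      exact (hJ _).mp hw
    have h2 : t * b = 0 := Module.Flat.isSMulRegular_of_nonZeroDivisors (M := Γ(X, U)) ha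
      (by simpa using h1)
    exact (IsLocalization.map_eq_zero_iff P₀.primeCompl (X.presheaf.stalk x) b).mpr ⟨⟨t, ht⟩, h2⟩

/-- An element of an invertible stalk which dies over the generic point is zero. -/
theorem eq_of_forall {M : X.Modules} (hM : PicF.IsInvertible M) {x : X} {v v' : M.presheaf.stalk x}
    (h : ∀ p, f p = genericPoint ↥Y → ∀ hp : p ⤳ x,
      M.presheaf.stalkSpecializes hp v = M.presheaf.stalkSpecializes hp v') : v = v' := by
  obtain ⟨U, m, hx, hm⟩ := Gen.isInvertible_iff.mp hM x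
  obtain ⟨c, rfl⟩ := Submodule.mem_span_singleton.mp
    (show v ∈ Submodule.span (X.presheaf.stalk x) {M.presheaf.germ U x hx m} from
      (span_germ hm hx).ge Submodule.mem_top)
  obtain ⟨c', rfl⟩ := Submodule.mem_span_singleton.mp
    (show v' ∈ Submodule.span (X.presheaf.stalk x) {M.presheaf.germ U x hx m} from
      (span_germ hm hx).ge Submodule.mem_top)
  refine congrArg (· • _) (sub_eq_zero.mp (eq_zero_of_forall f fun p hp hpx => ?_))
  rw [map_sub, sub_eq_zero]
  refine smul_left_cancel hM (span_specializes hM hpx (span_germ hm hx)) ?_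
  have := h p hp hpx
  rwa [Cyc.C1.stalkSpecializes_smul, Cyc.C1.stalkSpecializes_smul] at this

end Groth.Agent.Lib.PicGen.Maximal.Stalks
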