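import Groth.Agent.Lib.PicGen.Maximal.Pieces

/-!
# Invertible modules trivial on the maximal fibres come from the base
-/

universe u

noncomputable section

open CategoryTheory AlgebraicGeometry TopologicalSpace Opposite

namespace Groth.Agent.Lib.PicGen.Maximal.Main

open Groth.Agent.Lib Groth.Agent.Lib.TensorMod Groth.Agent.H97.GlueLine
open Groth.Agent.Lib.TensorMod.Dual (rs rf rf_rf rs_rs rf_self)

variable {X Y : Scheme.{u}} (f : X ⟶ Y) [Flat f] [Surjective f]

/-- Functions on an open are functions on its preimage. -/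
theorem app_injective (W : Y.Opens) : Function.Injective (f.app W) := by
  intro a b h
  refine TopCat.Presheaf.section_ext Y.sheaf W a b fun z hz => ?_
  obtain ⟨x, rfl⟩ := Surjective.surj (f := f) z
  letI : Algebra (Y.presheaf.stalk (f x)) (X.presheaf.stalk x) := (f.stalkMap x).hom.toAlgebra
  haveI : Module.FaithfullyFlat (Y.presheaf.stalk (f x)) (X.presheaf.stalk x) :=
    @Module.FaithfullyFlat.of_flat_of_isLocalHom _ _ _ _ _ _ _ (Flat.stalkMap f x) (f.toLRSHom.prop x)
  show Y.presheaf.germ W (f x) hz a = Y.presheaf.germ W (f x) hz b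
  refine sub_eq_zero.mp ?_
  have hbot := Ideal.comap_map_eq_self_of_faithfullyFlat (B := X.presheaf.stalk x)
    (⊥ : Ideal (Y.presheaf.stalk (f x)))
  refine (Submodule.mem_bot _).mp (hbot.le ?_)
  show (f.stalkMap x).hom _ ∈ Ideal.map _ ⊥
  rw [Ideal.map_bot, Submodule.mem_bot, map_sub, sub_eq_zero]
  show (f.stalkMap x).hom (Y.presheaf.germ W (f x) hz a) = (f.stalkMap x).hom (Y.presheaf.germ W (f x) hz b)
  erw [Scheme.Hom.germ_stalkMap_apply, Scheme.Hom.germ_stalkMap_apply]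
  rw [h]

theorem exists_descent [IsLocallyNoetherian X] [IsLocallyNoetherian Y]
    (hf : QuasiCompact f ∨ IsOpenMap f) (hY : Pi1.IsNormalScheme Y)
    (hfib : ∀ y : ↥Y, ringKrullDim (Y.presheaf.stalk y) = 1 → IsIntegral (f.fiber y))
    (L : X.Modules) (hL : PicF.IsInvertible L)
    (htriv : ∀ η : ↥Y, (∀ z : ↥Y, z ⤳ η → z = η) →
      Nonempty ((Scheme.Modules.pullback (f.fiberι η)).obj L ≅ Coh.structureModule (f.fiber η))) :
    ∃ M : Y.Modules, PicF.IsInvertible M ∧ Nonempty ((Scheme.Modules.pullback f).obj M ≅ L) := by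
  classical
  choose V l hyV hVη hl hr using fun η : {η : Y // ∀ w, w ⤳ η → w = η} =>
    Pieces.exists_charts f hf hY hfib hL η.2 (htriv η.1 η.2)
  let ι := Σ η : {η : Y // ∀ w, w ⤳ η → w = η}, {y : Y // η.1 ⤳ y}
  let U : ι → Y.Opens := fun i => V i.1 i.2
  let m : ∀ i, Γ(L, f ⁻¹ᵁ U i) := fun i => l i.1 i.2
  have hm : ∀ i, Gen.IsGen L (f ⁻¹ᵁ U i) (m i) := fun i => hl i.1 i.2
  have hU : iSup U = ⊤ := top_unique fun y _ => by
    obtain ⟨η, hηy, hη, -⟩ := Pieces.exists_top_generization hY y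
    exact Opens.mem_iSup.2 ⟨⟨⟨η, hη⟩, y, hηy⟩, hyV _ _⟩
  have hex : ∀ i j, ∃ r : Γ(Y, U i ⊓ U j),
      rs L (f.preimage_mono inf_le_right : f ⁻¹ᵁ (U i ⊓ U j) ≤ f ⁻¹ᵁ U j) (m j) =
        f.app (U i ⊓ U j) r • rs L (f.preimage_mono inf_le_left : f ⁻¹ᵁ (U i ⊓ U j) ≤ f ⁻¹ᵁ U i) (m i) := by
    rintro ⟨η, a⟩ ⟨θ, b⟩
    by_cases h : η = θ
    · subst h
      exact hr η a b
    · refine ⟨0, RefHull.SecHom.sec_ext fun x hx => absurd ?_ h⟩
      obtain ⟨ζ, -, -, hζ⟩ := Pieces.exists_top_generization hY (f x)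
      exact Subtype.ext ((η.2 _ (hζ _ (hVη η a _ hx.1))).symm.trans (θ.2 _ (hζ _ (hVη θ b _ hx.2))))
  choose r hr' using hex
  have key : ∀ (i j : ι) (W : Y.Opens) (hi : W ≤ U i) (hj : W ≤ U j),
      rs L (f.preimage_mono hj) (m j) = f.app W (rf (le_inf hi hj) (r i j)) • rs L (f.preimage_mono hi) (m i) := by
    intro i j W hi hj
    have h := congrArg (rs L (f.preimage_mono (le_inf hi hj))) (hr' i j)
    rw [Dual.rs_smul, rs_rs, rs_rs] at h
    refine h.trans (congrArg (· • _) ?_)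
    exact (congr($(f.naturality (homOfLE (le_inf hi hj)).op) (r i j))).symm
  have huniq : ∀ (i : ι) (W : Y.Opens) (hi : W ≤ U i) (a b : Γ(Y, W)),
      f.app W a • rs L (f.preimage_mono hi) (m i) = f.app W b • rs L (f.preimage_mono hi) (m i) → a = b :=
    fun i W hi a b h => app_injective f W ((hm i _ (f.preimage_mono hi)).1 h)
  let c : Cocycle U :=
    { u := r
      self := fun i W h => huniq i W (h.trans inf_le_left) _ _ <| by
        rw [map_one, one_smul]
        exact (key i i W (h.trans inf_le_left) (h.trans inf_le_right)).symm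
      trans := fun i j k W hi hj hk => huniq i W hi _ _ <| by
        rw [← key i k W hi hk, map_mul, mul_comm, mul_smul, ← key i j W hi hj, ← key j k W hj hk] }
  exact ⟨glue c, isInvertible_glue c hU,
    Groth.Agent.H97.PullbackLine.nonempty_pullback_glue_iso f hU c L m hm fun i j => hr' i j⟩

end Groth.Agent.Lib.PicGen.Maximal.Main
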